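import Cfsg.Agent.H916.RC.RceA6
import Cfsg.Agent.H106.RC.Red
import Cfsg.Agent.StdAlt.Six.Theta

/-!
# S3510 for the socle `A_6` (helper916)

`exc_A6` : `G` primitive on `Ω`, `A_6 ≅ T` normal in `G`, `C_G(T) = 1`, some `g` without regular cycle: `|Ω| = 6`.
-/

set_option autoImplicit false

namespace Cfsg.Agent.H916.RC

open Equiv Equiv.Perm
open Cfsg.Agent.H277.SK Cfsg.Agent.H106.RC

/-- an element without regular cycle contradicts `RCe` -/
theorem no_rce_of_noreg {G : Type*} [Group G] {Ω : Type*} [MulAction G Ω] [FaithfulSMul G Ω]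
    (T : Subgroup G) [T.Normal] (hT : IsSimpleGroup T)
    (hC : Subgroup.centralizer (T : Set G) = ⊥) (g : G)
    (hg : ∀ ω : Ω, MulAction.stabilizer (Subgroup.zpowers g) ω ≠ ⊥)
    (hRC : RCe T (MulAut.conjNormal g)) : False := by
  classical
  obtain ⟨t0, ht0⟩ := exists_ne (1 : T)
  have hex : ∃ ω : Ω, (t0 : G) • ω ≠ ω := by
    by_contra hno
    push Not at hno
    apply ht0
    apply Subtype.ext
    apply eq_of_smul_eq_smul (α := Ω)
    intro ω
    rw [hno ω]; simp
  obtain ⟨ω0, hω0⟩ := hex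
  let φ : G →* MulAut T := MulAut.conjNormal
  have hφ : ∀ x : G, φ x = 1 → x = 1 := by
    intro x hx
    have : x ∈ Subgroup.centralizer (T : Set G) := by
      rw [Subgroup.mem_centralizer_iff]
      intro t ht
      have h1 : (φ x ⟨t, ht⟩ : G) = t := by rw [hx]; rfl
      have h2 : (φ x ⟨t, ht⟩ : G) = x * t * x⁻¹ := MulAut.conjNormal_apply x ⟨t, ht⟩
      rw [h2] at h1
      have : x * t = t * x := by
        calc x * t = (x * t * x⁻¹) * x := by group
          _ = t * x := by rw [h1]
      exact this.symm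
    rw [hC] at this
    exact Subgroup.mem_bot.1 this
  have hinj : Function.Injective φ := (injective_iff_map_eq_one φ).2 hφ
  have hconj : ∀ t : T, φ (t : G) = MulAut.conj t := by
    intro t
    ext x
    simp [φ, MulAut.conjNormal_apply]
  let H : Subgroup (MulAut T) := (MulAction.stabilizer G ω0).map φ
  have hH : ¬ (MulAut.conj : T →* MulAut T).range ≤ H := by
    intro hle
    have h1 : φ (t0 : G) ∈ H := by
      rw [hconj]; exact hle ⟨t0, rfl⟩
    obtain ⟨x, hx, hxe⟩ := h1
    have := hinj hxe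
    subst this
    exact hω0 hx
  obtain ⟨s, hs⟩ := hRC H hH
  apply hg ((s : G)⁻¹ • ω0)
  rw [eq_bot_iff]
  rintro ⟨z, hz⟩ hzst
  have hzst' : z • ((s : G)⁻¹ • ω0) = (s : G)⁻¹ • ω0 := hzst
  have h1 : (s : G) * z * (s : G)⁻¹ ∈ MulAction.stabilizer G ω0 := by
    rw [MulAction.mem_stabilizer_iff, mul_smul, mul_smul, hzst', smul_inv_smul]
  have h2 : MulAut.conj s * φ z * (MulAut.conj s)⁻¹ ∈ H := by
    rw [← hconj, ← map_inv, ← map_mul, ← map_mul]
    exact ⟨_, h1, rfl⟩
  have h3 : φ z ∈ Subgroup.zpowers (φ g) := by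
    obtain ⟨k, rfl⟩ := Subgroup.mem_zpowers_iff.1 hz
    exact Subgroup.mem_zpowers_iff.2 ⟨k, by rw [map_zpow]⟩
  have h4 := hφ z (hs _ h3 h2)
  rw [Subgroup.mem_bot]
  exact Subtype.ext h4

/-- `T³` is the transposition of `x`, `y`, fixed by `T⁴` -/
def ocS (T x y : ℕ) : Bool := !(Nat.beq x y) && ([0, 1, 2, 3, 4, 5].all fun z =>
  Nat.beq (SixTab.iv T 3 z) (bif Nat.beq z x then y else bif Nat.beq z y then x else z)) &&
  Nat.beq (SixTab.iv T 4 x) x && Nat.beq (SixTab.iv T 4 y) y

/-- the check for `ord6_cases` -/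
def oc (T : ℕ) : Bool := !(SixTab.ck T 6) || (SixTab.ck T 3 || (SixTab.ck T 2 ||
  (([0, 1, 2, 3, 4, 5].all fun x => !(Nat.beq (SixTab.iv T 2 x) x)) ||
    [0, 1, 2, 3, 4, 5].any fun x => [0, 1, 2, 3, 4, 5].any fun y => ocS T x y)))

theorem oc0 : SixTab.fa 0 oc = true := by decide +kernel

theorem oc1 : SixTab.fa 1 oc = true := by decide +kernel

theorem oc2 : SixTab.fa 2 oc = true := by decide +kernel

theorem oc3 : SixTab.fa 3 oc = true := by decide +kernel

theorem oc4 : SixTab.fa 4 oc = true := by decide +kernel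

theorem oc5 : SixTab.fa 5 oc = true := by decide +kernel

/-- the elements of order six of `S_6` -/
theorem ord6_cases : ∀ σ : Perm (Fin 6), σ ^ 6 = 1 → σ ^ 3 ≠ 1 → σ ^ 2 ≠ 1 →
    (∀ x, (σ ^ 2) x ≠ x) ∨ ∃ x y, x ≠ y ∧ σ ^ 3 = swap x y ∧ (σ ^ 4) x = x ∧ (σ ^ 4) y = y := by
  intro σ h6 h3 h2
  have h := SixTab.fa_spec oc0 oc1 oc2 oc3 oc4 oc5 σ
  unfold oc at h
  rw [Bool.or_eq_true, Bool.or_eq_true, Bool.or_eq_true, Bool.or_eq_true, Bool.not_eq_true', ← Bool.not_eq_true,
    SixTab.ck_cod, SixTab.ck_cod, SixTab.ck_cod] at h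
  rcases h with h | h | h | h | h
  · exact absurd h6 h
  · exact absurd h h3
  · exact absurd h h2
  · left
    intro x hx
    rw [List.all_eq_true] at h
    have h1 := h x (SixTab.mem6 x)
    rw [SixTab.iv_cod, hx, Nat.beq_refl] at h1
    exact absurd h1 (by decide)
  · right
    rw [List.any_eq_true] at h
    obtain ⟨x, hx, h⟩ := h
    rw [List.any_eq_true] at h
    obtain ⟨y, hy, h⟩ := h
    have hx6 : x < 6 := by
      simp only [List.mem_cons, List.not_mem_nil, or_false] at hx
      omega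
    have hy6 : y < 6 := by
      simp only [List.mem_cons, List.not_mem_nil, or_false] at hy
      omega
    unfold ocS at h
    rw [Bool.and_eq_true, Bool.and_eq_true, Bool.and_eq_true, List.all_eq_true, Bool.not_eq_true'] at h
    obtain ⟨⟨⟨e1, e2⟩, e3⟩, e4⟩ := h
    have hxy : x ≠ y := by
      rintro rfl
      rw [Nat.beq_refl] at e1
      exact Bool.noConfusion e1
    refine ⟨⟨x, hx6⟩, ⟨y, hy6⟩, fun h => hxy (congrArg Fin.val h), ?_, ?_, ?_⟩
    · ext z
      have h1 := Nat.eq_of_beq_eq_true (e2 z (SixTab.mem6 z))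
      rw [SixTab.iv_cod] at h1
      rw [h1]
      by_cases hzx : z = ⟨x, hx6⟩
      · rw [hzx, swap_apply_left]
        show (bif Nat.beq x x then y else _) = y
        rw [Nat.beq_refl]; rfl
      · have n1 : Nat.beq (z : ℕ) x = false := by
          rw [← Bool.not_eq_true]
          intro h2
          exact hzx (Fin.ext (Nat.eq_of_beq_eq_true h2))
        rw [n1]
        by_cases hzy : z = ⟨y, hy6⟩
        · rw [hzy, swap_apply_right]
          show (bif Nat.beq y y then x else y) = x
          rw [Nat.beq_refl]; rfl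
        · have n2 : Nat.beq (z : ℕ) y = false := by
            rw [← Bool.not_eq_true]
            intro h2
            exact hzy (Fin.ext (Nat.eq_of_beq_eq_true h2))
          rw [n2, swap_apply_of_ne_of_ne hzx hzy]
          rfl
    · have h1 := Nat.eq_of_beq_eq_true e3
      have h2 := SixTab.iv_cod σ 4 ⟨x, hx6⟩
      exact Fin.ext (h2.symm.trans h1)
    · have h1 := Nat.eq_of_beq_eq_true e4
      have h2 := SixTab.iv_cod σ 4 ⟨y, hy6⟩
      exact Fin.ext (h2.symm.trans h1)

theorem zmul_six (k : ℤ) : (6 : ℤ) ∣ k ∨ (∃ m n : ℤ, k * m = 3 + 6 * n) ∨ ∃ m n : ℤ, k * m = 4 + 6 * n := by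
  obtain ⟨q, r, h0, h1, h2⟩ : ∃ q r : ℤ, k = 6 * q + r ∧ 0 ≤ r ∧ r < 6 :=
    ⟨k / 6, k % 6, (Int.mul_ediv_add_emod k 6).symm, Int.emod_nonneg _ (by norm_num), Int.emod_lt_of_pos _ (by norm_num)⟩
  subst h0
  interval_cases r
  · left; exact ⟨q, by ring⟩
  · right; left; exact ⟨3, 3 * q, by ring⟩
  · right; right; exact ⟨2, 2 * q, by ring⟩
  · right; left; exact ⟨1, q, by ring⟩
  · right; right; exact ⟨1, q, by ring⟩
  · right; left; exact ⟨3, 3 * q + 2, by ring⟩

section core

variable {G : Type*} [Group G] {T : Subgroup G} [hTn : T.Normal] (e : T ≃* A6)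

/-- the action on `A_6` -/
def act : G →* MulAut A6 := (MulAut.congr e).toMonoidHom.comp MulAut.conjNormal

theorem act_apply (g : G) (t : T) : act e g (e t) = e (MulAut.conjNormal g t) := by
  show e (MulAut.conjNormal g (e.symm (e t))) = _
  rw [MulEquiv.symm_apply_apply]

theorem act_coe (t : T) : act e (t : G) = MulAut.conj (e t) := by
  apply MulEquiv.ext
  intro x
  obtain ⟨u, rfl⟩ := e.surjective x
  rw [act_apply, MulAut.conj_apply, ← map_inv, ← map_mul, ← map_mul]
  congr 1

theorem act_inj (hC : Subgroup.centralizer (T : Set G) = ⊥) : Function.Injective (act e) := by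
  rw [injective_iff_map_eq_one]
  intro g hg
  have h1 : g ∈ Subgroup.centralizer (T : Set G) := by
    rw [Subgroup.mem_centralizer_iff]
    intro t ht
    have h2 := act_apply e g ⟨t, ht⟩
    rw [hg, MulAut.one_apply] at h2
    have h3 := congrArg Subtype.val (e.injective h2)
    rw [MulAut.conjNormal_apply] at h3
    have h4 : t = g * t * g⁻¹ := h3
    rw [eq_mul_inv_iff_mul_eq] at h4
    exact h4
  rw [hC, Subgroup.mem_bot] at h1
  exact h1

/-- the case of an element inducing `(x y)(z t u)` -/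
theorem core {Ω : Type*} [MulAction G Ω] [FaithfulSMul G Ω] [Finite Ω] (hC : Subgroup.centralizer (T : Set G) = ⊥)
    (htr : MulAction.IsPretransitive T Ω) {g : G} (hg : ∀ ω : Ω, MulAction.stabilizer (Subgroup.zpowers g) ω ≠ ⊥)
    {σ : Perm (Fin 6)} (hσ : act e g = cn σ) {x y : Fin 6} (hxy : x ≠ y) (h3 : σ ^ 3 = swap x y)
    (h4 : (σ ^ 4).IsThreeCycle) (h4x : (σ ^ 4) x = x) (h4y : (σ ^ 4) y = y) : Nat.card Ω = 6 := by
  classical
  have hinj := act_inj e hC
  have hσ6 : σ ^ 6 = 1 := by
    calc σ ^ 6 = (σ ^ 3) ^ 2 := by rw [← pow_mul]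
      _ = 1 := by rw [h3, pow_two, swap_mul_self]
  have hg6 : g ^ 6 = 1 := by
    apply hinj
    rw [map_pow, hσ, ← map_pow, hσ6, map_one, map_one]
  have hcov : ∀ ω : Ω, g ^ 3 • ω = ω ∨ g ^ 4 • ω = ω := by
    intro ω
    have h1 := hg ω
    rw [Subgroup.ne_bot_iff_exists_ne_one] at h1
    obtain ⟨⟨⟨z, hz⟩, hzω⟩, hz1⟩ := h1
    have hz1' : z ≠ 1 := fun h => hz1 (Subtype.ext (Subtype.ext h))
    have hzω' : z ∈ MulAction.stabilizer G ω := hzω
    obtain ⟨k, rfl⟩ := Subgroup.mem_zpowers_iff.1 hz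
    have hpow : ∀ m : ℤ, g ^ (k * m) ∈ MulAction.stabilizer G ω := fun m => by
      rw [zpow_mul]; exact Subgroup.zpow_mem _ hzω' m
    have hz6 : g ^ (6 : ℤ) = 1 := by exact_mod_cast hg6
    rcases zmul_six k with ⟨q, hq⟩ | ⟨m, n, hmn⟩ | ⟨m, n, hmn⟩
    · exact absurd (by rw [hq, zpow_mul, hz6, one_zpow]) hz1'
    · left
      have h8 := hpow m
      rw [hmn, zpow_add, zpow_mul, hz6, one_zpow, mul_one] at h8
      exact_mod_cast h8
    · right
      have h8 := hpow m
      rw [hmn, zpow_add, zpow_mul, hz6, one_zpow, mul_one] at h8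
      exact_mod_cast h8
  -- nonempty
  obtain ⟨t0, ht0⟩ : ∃ t : T, t ≠ 1 := by
    haveI : Nontrivial A6 := simpleA6.toNontrivial
    haveI : Nontrivial T := e.toEquiv.nontrivial
    exact exists_ne 1
  obtain ⟨w, hw⟩ : ∃ ω : Ω, (t0 : G) • ω ≠ ω := by
    by_contra hno
    push Not at hno
    apply ht0
    apply Subtype.ext
    apply eq_of_smul_eq_smul (α := Ω)
    intro ω
    rw [hno ω]; simp
  let D : Subgroup (Perm (Fin 6)) := ((MulAction.stabilizer G w).map (act e)).comap cn
  have hDT : ∀ t : T, ((e t : A6) : Perm (Fin 6)) ∈ D ↔ t • w = w := by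
    intro t
    constructor
    · rintro ⟨k, hk, hkt⟩
      have h5 : k = (t : G) := by
        apply hinj
        rw [hkt, act_coe, cn_val]
      rw [h5] at hk
      exact hk
    · intro h
      exact ⟨t, h, by rw [act_coe, cn_val]⟩
  have hcovD : ∀ s : Perm (Fin 6), Perm.sign s = 1 → s * σ ^ 3 * s⁻¹ ∈ D ∨ s * σ ^ 4 * s⁻¹ ∈ D := by
    intro s hs
    obtain ⟨t, ht⟩ := e.surjective (⟨s, Perm.mem_alternatingGroup.2 hs⟩ : A6)
    have hact : act e (t : G) = cn s := by
      rw [act_coe, ← cn_val, ht]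
    have hkey : ∀ n : ℕ, g ^ n • ((t : G)⁻¹ • w) = (t : G)⁻¹ • w → s * σ ^ n * s⁻¹ ∈ D := by
      intro n hn
      refine ⟨(t : G) * g ^ n * (t : G)⁻¹, ?_, ?_⟩
      · show ((t : G) * g ^ n * (t : G)⁻¹) • w = w
        rw [mul_smul, mul_smul, hn, smul_inv_smul]
      · rw [map_mul, map_mul, map_inv, map_pow, hact, hσ, map_mul, map_mul, map_inv, map_pow]
    rcases hcov ((t : G)⁻¹ • w) with h | h
    · exact Or.inl (hkey 3 h)
    · exact Or.inr (hkey 4 h)
  have h12 : (σ ^ 4) ^ 3 = 1 := by
    calc (σ ^ 4) ^ 3 = (σ ^ 6) ^ 2 := by rw [← pow_mul, ← pow_mul]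
      _ = 1 := by rw [hσ6, one_pow]
  have hσ34 : σ = swap x y * σ ^ 4 := by
    rw [← h3, ← pow_add, pow_succ, hσ6, one_mul]
  have hdisj : Disjoint (swap x y) (σ ^ 4) := by
    intro i
    by_cases hix : i = x
    · right; rw [hix, h4x]
    by_cases hiy : i = y
    · right; rw [hiy, h4y]
    · left; exact swap_apply_of_ne_of_ne hix hiy
  have hgraph : ∀ x' y' : Fin 6, x' ≠ y' → swap x' y' ∉ D → ∀ t : Perm (Fin 6), t.IsThreeCycle → t x' = x' →
      t y' = y' → t ∈ D := by
    intro x' y' hxy' hnot t ht htx hty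
    have hdisj' : Disjoint (swap x' y') t := by
      intro i
      by_cases hix : i = x'
      · right; rw [hix, htx]
      by_cases hiy : i = y'
      · right; rw [hiy, hty]
      · left; exact swap_apply_of_ne_of_ne hix hiy
    have hct : σ.cycleType = (swap x' y' * t).cycleType := by
      rw [hσ34, hdisj.cycleType_mul, hdisj'.cycleType_mul, h4.cycleType, ht.cycleType,
        (isCycle_swap hxy).cycleType, (isCycle_swap hxy').cycleType, card_support_swap hxy, card_support_swap hxy']
    obtain ⟨s, hs⟩ := isConj_iff.1 (isConj_iff_cycleType_eq.2 hct)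
    have hcm : Commute (swap x' y') t := hdisj'.commute
    have ht3 : t ^ 3 = 1 := by rw [← ht.orderOf, pow_orderOf_eq_one]
    have e3 : s * σ ^ 3 * s⁻¹ = swap x' y' := by
      rw [← conj_pow, hs, hcm.mul_pow, ht3, mul_one, pow_succ, pow_two, swap_mul_self, one_mul]
    have e4 : s * σ ^ 4 * s⁻¹ = t := by
      rw [← conj_pow, hs, hcm.mul_pow, show 4 = 2 * 2 from rfl, pow_mul (swap x' y'), pow_two (swap x' y'),
        swap_mul_self, one_pow, one_mul, show 2 * 2 = 3 + 1 from rfl, pow_add, ht3, one_mul, pow_one]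
    rcases Int.units_eq_one_or (Perm.sign s) with h | h
    · rcases hcovD s h with h5 | h5
      · rw [e3] at h5; exact absurd h5 hnot
      · rw [e4] at h5; exact h5
    · have h6 : Perm.sign (s * σ ^ 3) = 1 := by
        rw [map_mul, h, h3, sign_swap hxy]; rfl
      rcases hcovD _ h6 with h5 | h5
      · have : s * σ ^ 3 * σ ^ 3 * (s * σ ^ 3)⁻¹ = s * σ ^ 3 * s⁻¹ := by group
        rw [this, e3] at h5; exact absurd h5 hnot
      · have : s * σ ^ 3 * σ ^ 4 * (s * σ ^ 3)⁻¹ = s * σ ^ 4 * s⁻¹ := by group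
        rw [this, e4] at h5; exact h5
  have hA : ¬ alternatingGroup (Fin 6) ≤ D := by
    intro hle
    apply hw
    have : ((e t0 : A6) : Perm (Fin 6)) ∈ D := hle (e t0).2
    exact (hDT t0).1 this
  obtain ⟨a, ha⟩ := graph hgraph hA
  have hst : MulAction.stabilizer T w = (MulAction.stabilizer A6 a).comap e.toMonoidHom := by
    ext t
    rw [MulAction.mem_stabilizer_iff, ← hDT, ha _ (Perm.mem_alternatingGroup.1 (e t).2)]
    rfl
  rw [← MulAction.index_stabilizer_of_transitive T w, hst, Subgroup.index_comap_of_surjective _ e.surjective]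
  haveI : MulAction.IsPretransitive A6 (Fin 6) := alternatingGroup.isPretransitive_of_three_le_card (Fin 6) (by simp)
  rw [MulAction.index_stabilizer_of_transitive, Nat.card_eq_fintype_card, Fintype.card_fin]

end core

/-- **The socle `A_6`.** -/
theorem exc_A6 {G : Type*} [Group G] [Finite G] {Ω : Type*} [Fintype Ω] [MulAction G Ω] [FaithfulSMul G Ω]
    (T : Subgroup G) [T.Normal] (hT : Nonempty (T ≃* alternatingGroup (Fin 6)))
    (hC : Subgroup.centralizer (T : Set G) = ⊥) (hprim : MulAction.IsPreprimitive G Ω) (g : G)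
    (hg : ∀ ω : Ω, MulAction.stabilizer (Subgroup.zpowers g) ω ≠ ⊥) : Fintype.card Ω = 6 := by
  classical
  obtain ⟨e⟩ := hT
  have hsT : IsSimpleGroup T := by
    haveI := simpleA6
    haveI : Nontrivial T := e.toEquiv.nontrivial
    exact IsSimpleGroup.isSimpleGroup_of_surjective e.symm.toMonoidHom e.symm.surjective
  have htr : MulAction.IsPretransitive T Ω := by
    apply MulAction.IsQuasiPreprimitive.isPretransitive_of_normal (G := G)
    intro h
    obtain ⟨t0, ht0⟩ := exists_ne (1 : T)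
    apply ht0
    apply Subtype.ext
    apply eq_of_smul_eq_smul (α := Ω)
    intro ω
    have h1 : ω ∈ MulAction.fixedPoints T Ω := by rw [h]; trivial
    have h2 : (t0 : G) • ω = ω := h1 t0
    rw [h2]; simp
  have hinj := act_inj e hC
  rw [← Nat.card_eq_fintype_card]
  by_cases h6 : orderOf (act e g) = 6
  · have hpr : ∀ α : MulAut A6, orderOf α = 6 → Pr α := by
      intro α hα
      by_contra hno
      rcases pow_of_not_pr hno with h | h
      · have := orderOf_dvd_of_pow_eq_one h
        rw [hα] at this; omega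
      · have := orderOf_dvd_of_pow_eq_one h
        rw [hα] at this; omega
    have hmain : ∀ e' : T ≃* A6, orderOf (act e' g) = 6 →
        (∀ σ, act e' g = cn σ → ∃ x, (σ ^ 2) x = x) → Nat.card Ω = 6 := by
      intro e' h6' hfix
      obtain ⟨σ, hσ⟩ := pr_cn (hpr _ h6')
      have ho : orderOf σ = 6 := by rw [← orderOf_injective cn cn_inj, hσ, h6']
      have p6 : σ ^ 6 = 1 := by
        have := pow_orderOf_eq_one σ
        rwa [ho] at this
      have p3 : σ ^ 3 ≠ 1 := fun h => by
        have := orderOf_dvd_of_pow_eq_one h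
        rw [ho] at this; omega
      have p2 : σ ^ 2 ≠ 1 := fun h => by
        have := orderOf_dvd_of_pow_eq_one h
        rw [ho] at this; omega
      obtain ⟨x0, hx0⟩ := hfix σ hσ.symm
      rcases ord6_cases σ p6 p3 p2 with h | ⟨x, y, hxy, q3, q4, q5⟩
      · exact absurd hx0 (h x0)
      · have q6 : (σ ^ 4).IsThreeCycle := by
          have o3 : orderOf (σ ^ 4) = 3 := by
            rw [orderOf_pow, ho]
            norm_num
          have s4 : Perm.sign (σ ^ 4) = 1 := odd_order_even (n := 3) (by decide) (by rw [← o3, pow_orderOf_eq_one])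
          rcases T3_or_Q3 (x := ⟨σ ^ 4, Perm.mem_alternatingGroup.2 s4⟩) (by rw [← Subgroup.orderOf_coe]; exact o3) with h | h
          · exact h
          · exfalso
            have h2 : (σ ^ 4).support.card = 6 := by
              rw [← sum_cycleType, show (σ ^ 4).cycleType = {3, 3} from h]; rfl
            have h4 : (σ ^ 4).support ⊆ Finset.univ.erase x := fun y hy => by
              rw [Finset.mem_erase]
              exact ⟨fun h => (mem_support.1 hy) (h ▸ q4), Finset.mem_univ _⟩
            have h5 := Finset.card_le_card h4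
            rw [h2, Finset.card_erase_of_mem (Finset.mem_univ _), Finset.card_univ, Fintype.card_fin] at h5
            omega
        exact core e' hC htr hg hσ.symm hxy q3 q6 q4 q5
    by_cases hq : ∀ σ, act e g = cn σ → ∃ x, (σ ^ 2) x = x
    · exact hmain e h6 hq
    · push Not at hq
      obtain ⟨σ, hσ, hno⟩ := hq
      obtain ⟨θ, hθ⟩ := StdAlt.Six.exists_theta
      have hθp : ¬ Pr θ := by
        intro h
        obtain ⟨τ, hτ⟩ := pr_cn h
        apply hθ
        refine ⟨τ, fun x => ?_⟩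
        rw [← hτ, cn_apply]
      let e' : T ≃* A6 := e.trans θ
      have hact : ∀ k : G, act e' k = θ * act e k * θ⁻¹ := by
        intro k
        apply MulEquiv.ext
        intro x
        obtain ⟨u, rfl⟩ := e'.surjective x
        rw [act_apply]
        show θ (e (MulAut.conjNormal k u)) = (θ * act e k * θ⁻¹) (θ (e u))
        rw [MulAut.mul_apply, MulAut.mul_apply, show θ⁻¹ (θ (e u)) = e u from θ.symm_apply_apply _, act_apply]
      have ho' : orderOf (act e' g) = 6 := by
        rw [hact, show θ * act e g * θ⁻¹ = MulAut.conj θ (act e g) from rfl, MulEquiv.orderOf_eq, h6]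
      apply hmain e' ho'
      intro σ' hσ'
      by_contra hno'
      push Not at hno'
      -- both squares have type `3^2`
      have ho : orderOf σ = 6 := by rw [← orderOf_injective cn cn_inj, ← hσ, h6]
      have ho2 : orderOf σ' = 6 := by rw [← orderOf_injective cn cn_inj, ← hσ', ho']
      have htype : ∀ τ : Perm (Fin 6), orderOf τ = 6 → (∀ x, (τ ^ 2) x ≠ x) → ∃ h : Perm.sign (τ ^ 2) = 1,
          Q3 ⟨τ ^ 2, Perm.mem_alternatingGroup.2 h⟩ := by
        intro τ hτ hx
        have o3 : orderOf (τ ^ 2) = 3 := by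
          rw [orderOf_pow, hτ]
          norm_num
        have s4 : Perm.sign (τ ^ 2) = 1 := odd_order_even (n := 3) (by decide) (by rw [← o3, pow_orderOf_eq_one])
        refine ⟨s4, ?_⟩
        rcases T3_or_Q3 (x := ⟨τ ^ 2, Perm.mem_alternatingGroup.2 s4⟩) (by rw [← Subgroup.orderOf_coe]; exact o3) with h | h
        · exfalso
          have h2 : (τ ^ 2).support.card = 3 := card_support_eq_three_iff.2 h
          have h3 : (τ ^ 2).support = Finset.univ := by
            ext x; simp [hx x]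
          rw [h3, Finset.card_univ, Fintype.card_fin] at h2
          omega
        · exact h
      obtain ⟨s1, q1⟩ := htype σ ho hno
      obtain ⟨s2, q2⟩ := htype σ' ho2 hno'
      have h7 : θ ⟨σ ^ 2, Perm.mem_alternatingGroup.2 s1⟩ = ⟨σ' ^ 2, Perm.mem_alternatingGroup.2 s2⟩ := by
        apply conj_inj
        rw [← mul_conj_inv, ← cn_val, ← cn_val]
        show θ * cn (σ ^ 2) * θ⁻¹ = cn (σ' ^ 2)
        rw [map_pow, map_pow, ← hσ, ← hσ', hact, ← conj_pow]
      have h8 := swapQ hθp q1
      rw [h7] at h8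
      exact T3_not_Q3 h8 q2
  · exfalso
    have h1 := rce_A6 (act e g) h6
    apply no_rce_of_noreg T hsT hC g hg
    have h2 := h1.congr e.symm
    have h3 : MulAut.congr e.symm (act e g) = MulAut.conjNormal g := by
      apply MulEquiv.ext
      intro t
      show e.symm (act e g (e t)) = _
      rw [act_apply, MulEquiv.symm_apply_apply]
    rwa [h3] at h2

end Cfsg.Agent.H916.RC
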