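import Cfsg.Agent.H916.RC.A6Aut

/-!
# Regular cycles for `A_6`: every automorphism of order `≠ 6` (helper916)
-/

set_option autoImplicit false

namespace Cfsg.Agent.H916.RC

open Equiv Equiv.Perm
open Cfsg.Agent.H277.SK Cfsg.Agent.H106.RC

/-- a subgroup of `A_6` with elements of type `3`, `3^2` and `5` is `A_6` -/
theorem top_of_types {H0 : Subgroup A6} {t q c : A6} (ht : T3 t) (htH : t ∈ H0) (hq : Q3 q) (hqH : q ∈ H0)
    (hc : orderOf c = 5) (hcH : c ∈ H0) : H0 = ⊤ := by
  have h1 : alternatingGroup (Fin 6) ≤ H0.map (Subgroup.subtype A6) := by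
    refine five_three (t := t) (q := q) (c := c) ht ⟨t, htH, rfl⟩ ?_ ⟨q, hqH, rfl⟩ (by rw [Subgroup.orderOf_coe]; exact hc)
      ⟨c, hcH, rfl⟩
    intro x hx
    have h2 : (q : Perm (Fin 6)).support.card = 6 := by
      rw [← sum_cycleType, hq]; rfl
    have h3 : x ∉ (q : Perm (Fin 6)).support := by rw [mem_support, not_not]; exact hx
    have h4 : (q : Perm (Fin 6)).support ⊆ Finset.univ.erase x := fun y hy => by
      rw [Finset.mem_erase]
      exact ⟨fun h => h3 (h ▸ hy), Finset.mem_univ _⟩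
    have h5 := Finset.card_le_card h4
    rw [h2, Finset.card_erase_of_mem (Finset.mem_univ _), Finset.card_univ, Fintype.card_fin] at h5
    omega
  rw [eq_top_iff]
  intro x _
  obtain ⟨y, hy, hyx⟩ := h1 x.2
  rwa [← (Subtype.ext hyx : y = x)]

theorem card_A6 : Nat.card A6 = 360 := by
  rw [nat_card_alternatingGroup]
  simp [Nat.factorial]

/-- a subgroup of `A_6` without elements of order three has at most one subgroup of order five -/
theorem unique_five {H0 : Subgroup A6} (h3 : ∀ x ∈ H0, orderOf x ≠ 3) {c y : A6} (hcH : c ∈ H0) (hc : orderOf c = 5)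
    (hyH : y ∈ H0) (hy : y ^ 5 = 1) : y ∈ Subgroup.zpowers c := by
  haveI : Fact (Nat.Prime 5) := ⟨Nat.prime_five⟩
  haveI : Fact (Nat.Prime 3) := ⟨Nat.prime_three⟩
  have hdvd : Nat.card H0 ∣ 40 := by
    have h1 : Nat.card H0 ∣ 360 := card_A6 ▸ Subgroup.card_subgroup_dvd_card H0
    have h2 : ¬ 3 ∣ Nat.card H0 := by
      intro h
      obtain ⟨x, hx⟩ := exists_prime_orderOf_dvd_card' 3 h
      exact h3 x x.2 (by rw [Subgroup.orderOf_coe]; exact hx)
    have h4 : Nat.Coprime (Nat.card H0) 9 := by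
      rw [show 9 = 3 ^ 2 from rfl]
      exact Nat.Coprime.pow_right 2 ((Nat.Prime.coprime_iff_not_dvd Nat.prime_three).2 h2).symm
    have h5 : Nat.card H0 ∣ 9 * 40 := by rw [show 9 * 40 = 360 from rfl]; exact h1
    exact h4.dvd_of_dvd_mul_left h5
  let c' : H0 := ⟨c, hcH⟩
  let y' : H0 := ⟨y, hyH⟩
  have hc' : orderOf c' = 5 := by rw [← Subgroup.orderOf_coe]; exact hc
  have hone : Nat.card (Sylow 5 H0) = 1 := by
    have h1 := card_sylow_modEq_one 5 H0
    obtain ⟨P⟩ : Nonempty (Sylow 5 H0) := inferInstance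
    have h2 : Nat.card (Sylow 5 H0) ∣ (P : Subgroup H0).index := Sylow.card_dvd_index P
    have h5 : 5 ∣ Nat.card P := by
      have h6 : 5 ∣ Nat.card H0 := by
        rw [← hc']; exact orderOf_dvd_natCard _
      exact P.dvd_card_of_dvd_card h6
    have h7 : (P : Subgroup H0).index ∣ 8 := by
      have h8 := Subgroup.card_mul_index (P : Subgroup H0)
      obtain ⟨k, hk⟩ := h5
      obtain ⟨m, hm⟩ := hdvd
      have h9 : 5 * (k * (P : Subgroup H0).index * m) = 5 * 8 := by
        calc 5 * (k * (P : Subgroup H0).index * m) = (5 * k) * (P : Subgroup H0).index * m := by ring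
          _ = Nat.card H0 * m := by rw [← hk, h8]
          _ = 5 * 8 := by rw [← hm]
      have h10 : k * (P : Subgroup H0).index * m = 8 := Nat.eq_of_mul_eq_mul_left (by norm_num) h9
      exact ⟨k * m, by rw [← h10]; ring⟩
    have h11 := h2.trans h7
    have h12 : Nat.card (Sylow 5 H0) ≤ 8 := Nat.le_of_dvd (by norm_num) h11
    rw [Nat.ModEq] at h1
    generalize Nat.card (Sylow 5 H0) = n at *
    interval_cases n <;> simp_all
  have hsub : Subsingleton (Sylow 5 H0) := (Nat.card_eq_one_iff_unique.1 hone).1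
  have hpc : IsPGroup 5 (Subgroup.zpowers c') := by
    rw [IsPGroup.iff_card]
    exact ⟨1, by rw [Nat.card_zpowers, hc', pow_one]⟩
  have hpy : IsPGroup 5 (Subgroup.zpowers y') := by
    have h1 : orderOf y' ∣ 5 := orderOf_dvd_of_pow_eq_one (Subtype.ext hy)
    rcases (Nat.dvd_prime Nat.prime_five).1 h1 with h2 | h2
    · rw [IsPGroup.iff_card]
      exact ⟨0, by rw [Nat.card_zpowers, h2, pow_zero]⟩
    · rw [IsPGroup.iff_card]
      exact ⟨1, by rw [Nat.card_zpowers, h2, pow_one]⟩
  obtain ⟨P, hP⟩ := hpc.exists_le_sylow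
  obtain ⟨Q, hQ⟩ := hpy.exists_le_sylow
  rw [Subsingleton.elim Q P] at hQ
  have hcardP : Nat.card P ≤ 5 := by
    obtain ⟨k, hk⟩ := (IsPGroup.iff_card (p := 5)).1 P.2
    have h1 : Nat.card P ∣ 40 := (Subgroup.card_subgroup_dvd_card (P : Subgroup H0)).trans hdvd
    have h2 : k ≤ 1 := by
      by_contra hk2
      push Not at hk2
      have h3 : 5 ^ 2 ∣ 40 := (pow_dvd_pow 5 hk2).trans (hk ▸ h1)
      norm_num at h3
    have : Nat.card P = 5 ^ k := hk
    rw [this]
    calc 5 ^ k ≤ 5 ^ 1 := Nat.pow_le_pow_right (by norm_num) h2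
      _ = 5 := by norm_num
  have heq : Subgroup.zpowers c' = (P : Subgroup H0) := by
    apply Subgroup.eq_of_le_of_card_ge hP
    rw [Nat.card_zpowers, hc']
    exact hcardP
  have h1 : y' ∈ Subgroup.zpowers c' := by
    rw [heq]; exact hQ (Subgroup.mem_zpowers y')
  obtain ⟨k, hk⟩ := Subgroup.mem_zpowers_iff.1 h1
  exact Subgroup.mem_zpowers_iff.2 ⟨k, by
    have := congrArg Subtype.val hk
    rw [Subgroup.coe_zpow] at this
    exact this⟩

/-- **Order ten.** -/
theorem ten {H : Subgroup (MulAut A6)} (hH : ¬ (MulAut.conj : A6 →* MulAut A6).range ≤ H) {a : MulAut A6} {c : A6}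
    (ha : a * a = 1) (hpa : ¬ Pr a) (hc : orderOf c = 5) (hac : a c = c)
    (hcov : ∀ s : A6, MulAut.conj s * a * (MulAut.conj s)⁻¹ ∈ H ∨ MulAut.conj (s * c * s⁻¹) ∈ H) : False := by
  have hS := simpleA6
  have ha1 : a ≠ 1 := fun h => hpa (h ▸ pr_one)
  have hao : orderOf a = 2 ^ 1 := by
    rw [pow_one]; exact orderOf_eq_prime (by rw [pow_two]; exact ha) ha1
  -- both occur
  have hB : ∃ s : A6, MulAut.conj (s * c * s⁻¹) ∈ H := by
    by_contra hno
    push Not at hno
    obtain ⟨s, hs⟩ := rce_of_prime_pow hS a Nat.prime_two hao H hH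
    rcases hcov s with h | h
    · exact ha1 (hs a (Subgroup.mem_zpowers a) h)
    · exact hno s h
  have hA : ∃ s : A6, MulAut.conj s * a * (MulAut.conj s)⁻¹ ∈ H := by
    by_contra hno
    push Not at hno
    have hco : orderOf (MulAut.conj c) = 5 ^ 1 := by
      rw [pow_one, orderOf_injective _ (fun _ _ h => conj_inj h), hc]
    obtain ⟨s, hs⟩ := rce_of_prime_pow hS (MulAut.conj c) Nat.prime_five hco H hH
    rcases hcov s with h | h
    · exact hno s h
    · have h1 := hs (MulAut.conj c) (Subgroup.mem_zpowers _) (by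
        rw [← map_mul, ← map_inv, ← map_mul]; exact h)
      rw [h1, orderOf_one] at hco
      norm_num at hco
  obtain ⟨s0, hs0⟩ := hB
  obtain ⟨s1, hs1⟩ := hA
  let H0 : Subgroup A6 := H.comap MulAut.conj
  have hH0 : H0 ≠ ⊤ := by
    intro h
    apply hH
    rintro _ ⟨x, rfl⟩
    have : x ∈ H0 := by rw [h]; trivial
    exact this
  set c' : A6 := s0 * c * s0⁻¹ with hc'
  have hc'H : c' ∈ H0 := hs0
  have hco' : orderOf c' = 5 := by
    rw [hc', show s0 * c * s0⁻¹ = MulAut.conj s0 c from rfl, MulEquiv.orderOf_eq, hc]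
  have hnorm : ∀ h ∈ H, ∀ x ∈ H0, h x ∈ H0 := by
    intro h hh x hx
    show MulAut.conj (h x) ∈ H
    rw [← mul_conj_inv]
    exact H.mul_mem (H.mul_mem hh hx) (H.inv_mem hh)
  set z : MulAut A6 := MulAut.conj s1 * a * (MulAut.conj s1)⁻¹ with hz
  have hzp : ¬ Pr z := by
    intro h
    apply hpa
    have h1 : a = (MulAut.conj s1)⁻¹ * z * MulAut.conj s1 := by rw [hz]; group
    rw [h1]
    have h2 : ∀ s : A6, Pr (MulAut.conj s) := fun s x hx => by
      refine T3_conj ?_ hx
      exact isConj_iff.2 ⟨s, rfl⟩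
    have h3 : Pr (MulAut.conj s1)⁻¹ := by rw [← map_inv]; exact h2 _
    exact pr_mul' (pr_mul' h3 h) (h2 _)
  have h3 : ∀ x ∈ H0, orderOf x ≠ 3 := by
    intro x hx hx3
    have hzx := hnorm z hs1 x hx
    rcases T3_or_Q3 hx3 with h1 | h1
    · exact hH0 (top_of_types h1 hx (swapT hzp h1) hzx hco' hc'H)
    · exact hH0 (top_of_types (swapQ hzp h1) hzx h1 hx hco' hc'H)
  have huniq : ∀ y ∈ H0, y ^ 5 = 1 → y ∈ Subgroup.zpowers c' := fun y hy h5 => unique_five h3 hc'H hco' hy h5
  let P : Subgroup A6 := Subgroup.zpowers c'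
  have hP5 : ∀ y ∈ P, y ^ 5 = 1 := by
    intro y hy
    obtain ⟨k, rfl⟩ := Subgroup.mem_zpowers_iff.1 hy
    rw [← zpow_natCast, ← zpow_mul, mul_comm, zpow_mul, zpow_natCast, ← hco', pow_orderOf_eq_one, one_zpow]
  have hPH : P ≤ H0 := by rw [Subgroup.zpowers_le]; exact hc'H
  -- the conjugates of `a` normalise `P`
  have hall : ∀ s : A6, ∀ y ∈ P, (MulAut.conj s * a * (MulAut.conj s)⁻¹) y ∈ P := by
    intro s y hy
    rcases hcov s with h | h
    · apply huniq _ (hnorm _ h y (hPH hy))
      rw [← map_pow, hP5 y hy, map_one]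
    · have h1 : s * c * s⁻¹ ∈ P := huniq _ h (by
        have : (s * c * s⁻¹) ^ 5 = s * c ^ 5 * s⁻¹ := conj_pow
        rw [this, ← hc, pow_orderOf_eq_one, mul_one, mul_inv_cancel])
      have h2 : Subgroup.zpowers (s * c * s⁻¹) = P := by
        apply Subgroup.eq_of_le_of_card_ge (by rw [Subgroup.zpowers_le]; exact h1)
        rw [Nat.card_zpowers, Nat.card_zpowers, hco', show s * c * s⁻¹ = MulAut.conj s c from rfl,
          MulEquiv.orderOf_eq, hc]
      have h4 : (MulAut.conj s * a * (MulAut.conj s)⁻¹) (s * c * s⁻¹) = s * c * s⁻¹ := by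
        rw [← map_inv, MulAut.mul_apply, MulAut.mul_apply, MulAut.conj_apply, MulAut.conj_apply]
        have h5 : s⁻¹ * (s * c * s⁻¹) * s⁻¹⁻¹ = c := by group
        rw [h5, hac]
      rw [← h2] at hy ⊢
      obtain ⟨k, rfl⟩ := Subgroup.mem_zpowers_iff.1 hy
      rw [map_zpow, h4]
      exact Subgroup.zpow_mem_zpowers _ k
  let K : Subgroup (MulAut A6) :=
    { carrier := {α | ∀ x, α x ∈ P ↔ x ∈ P}
      one_mem' := fun x => Iff.rfl
      mul_mem' := fun {α β} hα hβ x => by
        rw [MulAut.mul_apply]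
        exact (hα _).trans (hβ x)
      inv_mem' := fun {α} hα x => by
        have h1 := hα (α⁻¹ x)
        rw [show α (α⁻¹ x) = x from α.apply_symm_apply x] at h1
        exact h1.symm }
  have haK : ∀ s : A6, MulAut.conj s * a * (MulAut.conj s)⁻¹ ∈ K := by
    intro s x
    refine ⟨fun h => ?_, fun h => hall s x h⟩
    have h1 := hall s _ h
    have h2 : (MulAut.conj s * a * (MulAut.conj s)⁻¹) * (MulAut.conj s * a * (MulAut.conj s)⁻¹) = 1 := by
      calc _ = MulAut.conj s * (a * a) * (MulAut.conj s)⁻¹ := by group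
        _ = 1 := by rw [ha]; group
    rw [← MulAut.mul_apply, h2, MulAut.one_apply] at h1
    exact h1
  have hK : (MulAut.conj : A6 →* MulAut A6).range ≤ K := by
    by_contra hno
    obtain ⟨s, hs⟩ := rce_of_prime_pow hS a Nat.prime_two hao K hno
    exact ha1 (hs a (Subgroup.mem_zpowers a) (haK s))
  have hPn : P.Normal := by
    constructor
    intro x hx s
    have := (hK ⟨s, rfl⟩ : ∀ x, MulAut.conj s x ∈ P ↔ x ∈ P)
    exact (this x).2 hx
  rcases hS.eq_bot_or_eq_top_of_normal P hPn with h | h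
  · have h1 : Nat.card P = 5 := by rw [Nat.card_zpowers, hco']
    rw [h, Subgroup.card_bot] at h1
    omega
  · have h1 : Nat.card P = 5 := by rw [Nat.card_zpowers, hco']
    rw [h, Subgroup.card_top, card_A6] at h1
    omega

theorem zmul_ten (k : ℤ) : (10 : ℤ) ∣ k ∨ (∃ m n : ℤ, k * m = 5 + 10 * n) ∨ ∃ m n : ℤ, k * m = 2 + 10 * n := by
  obtain ⟨q, r, h0, h1, h2⟩ : ∃ q r : ℤ, k = 10 * q + r ∧ 0 ≤ r ∧ r < 10 :=
    ⟨k / 10, k % 10, (Int.mul_ediv_add_emod k 10).symm, Int.emod_nonneg _ (by norm_num), Int.emod_lt_of_pos _ (by norm_num)⟩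
  subst h0
  interval_cases r
  · left; exact ⟨q, by ring⟩
  · right; left; exact ⟨5, 5 * q, by ring⟩
  · right; right; exact ⟨1, q, by ring⟩
  · right; left; exact ⟨5, 5 * q + 1, by ring⟩
  · right; right; exact ⟨3, 3 * q + 1, by ring⟩
  · right; left; exact ⟨1, q, by ring⟩
  · right; right; exact ⟨2, 2 * q + 1, by ring⟩
  · right; left; exact ⟨5, 5 * q + 3, by ring⟩
  · right; right; exact ⟨4, 4 * q + 3, by ring⟩
  · right; left; exact ⟨5, 5 * q + 4, by ring⟩

/-- every automorphism of `A_6` of order different from 6 has the regular cycle property -/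
theorem rce_A6 : ∀ g : MulAut (alternatingGroup (Fin 6)), orderOf g ≠ 6 → RCe (alternatingGroup (Fin 6)) g := by
  intro g hg
  have hS := simpleA6
  have hp : ∀ {p k : ℕ}, p.Prime → orderOf g = p ^ k → RCe (alternatingGroup (Fin 6)) g :=
    fun hp h => rce_of_prime_pow hS g hp h
  by_cases hPr : Pr g
  · -- induced by a permutation: orders 1, ..., 6
    obtain ⟨σ, rfl⟩ := pr_cn hPr
    rw [orderOf_injective cn cn_inj] at hg
    have ho : orderOf (cn σ) = orderOf σ := orderOf_injective cn cn_inj σ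
    rcases ord_six σ with h | h | h
    · have h1 : orderOf σ ∣ 2 ^ 2 := orderOf_dvd_of_pow_eq_one h
      obtain ⟨k, _, hk⟩ := (Nat.dvd_prime_pow Nat.prime_two).1 h1
      exact hp Nat.prime_two (ho.trans hk)
    · have h1 := orderOf_dvd_of_pow_eq_one h
      rcases (Nat.dvd_prime Nat.prime_five).1 h1 with h2 | h2
      · exact hp (k := 0) Nat.prime_five (ho.trans h2)
      · exact hp (k := 1) Nat.prime_five (ho.trans (by rw [h2, pow_one]))
    · have h1 := orderOf_dvd_of_pow_eq_one h
      have h2 : orderOf σ ≤ 6 := Nat.le_of_dvd (by norm_num) h1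
      have h3 : orderOf σ = 1 ∨ orderOf σ = 2 ∨ orderOf σ = 3 := by
        generalize orderOf σ = n at *
        interval_cases n <;> simp_all
      rcases h3 with h3 | h3 | h3
      · exact hp (k := 0) Nat.prime_two (ho.trans h3)
      · exact hp (k := 1) Nat.prime_two (ho.trans (by rw [h3, pow_one]))
      · exact hp (k := 1) Nat.prime_three (ho.trans (by rw [h3, pow_one]))
  · rcases pow_of_not_pr hPr with h | h
    · have h1 : orderOf g ∣ 2 ^ 3 := orderOf_dvd_of_pow_eq_one h
      obtain ⟨k, _, hk⟩ := (Nat.dvd_prime_pow Nat.prime_two).1 h1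
      exact hp Nat.prime_two hk
    · have h1 := orderOf_dvd_of_pow_eq_one h
      have h2 : orderOf g ≤ 10 := Nat.le_of_dvd (by norm_num) h1
      have h3 : orderOf g = 1 ∨ orderOf g = 2 ∨ orderOf g = 5 ∨ orderOf g = 10 := by
        generalize orderOf g = n at *
        interval_cases n <;> simp_all
      rcases h3 with h3 | h3 | h3 | h3
      · exact hp (k := 0) Nat.prime_two h3
      · exact hp (k := 1) Nat.prime_two (by rw [h3, pow_one])
      · exact hp (k := 1) Nat.prime_five (by rw [h3, pow_one])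
      · -- order ten
        obtain ⟨τ, hτ⟩ := pr_cn (pr_sq g)
        have hτ5 : orderOf τ = 5 := by
          rw [← orderOf_injective cn cn_inj, hτ, ← pow_two, orderOf_pow, h3]
          norm_num
        have hs : Perm.sign τ = 1 := odd_order_even (n := 5) (by decide) (by rw [← hτ5, pow_orderOf_eq_one])
        let c : A6 := ⟨τ, Perm.mem_alternatingGroup.2 hs⟩
        have hc : orderOf c = 5 := by rw [← Subgroup.orderOf_coe]; exact hτ5
        have hcg : MulAut.conj c = g ^ 2 := by rw [← cn_val, pow_two]; exact hτ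
        have h10 : g ^ 10 = 1 := h
        intro H hH
        by_contra hcon
        push Not at hcon
        refine ten hH (a := g ^ 5) (c := c) ?_ ?_ hc ?_ ?_
        · rw [← pow_add]; exact h10
        · intro hpr
          apply hPr
          have h5 : g = g ^ 5 * (g ^ 2 * g ^ 2)⁻¹ := by
            rw [← pow_add]
            rw [eq_mul_inv_iff_mul_eq, ← pow_succ']
          rw [h5]
          refine pr_mul' hpr ?_
          have h6 : (g ^ 2 * g ^ 2)⁻¹ = g ^ 2 * g ^ 2 * g ^ 2 := by
            rw [inv_eq_iff_mul_eq_one, ← pow_add, ← pow_add, ← pow_add]; exact h10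
          rw [h6, pow_two]
          exact pr_mul' (pr_mul' (pr_sq g) (pr_sq g)) (pr_sq g)
        · apply conj_inj
          rw [← mul_conj_inv, hcg, ← pow_add, mul_inv_eq_iff_eq_mul, ← pow_add]
        · intro s
          obtain ⟨z, hz, hzH, hz1⟩ := hcon s
          obtain ⟨k, rfl⟩ := Subgroup.mem_zpowers_iff.1 hz
          have hconj : ∀ m : ℤ, MulAut.conj s * g ^ (k * m) * (MulAut.conj s)⁻¹ ∈ H := by
            intro m
            have h7 := H.zpow_mem hzH m
            rwa [conj_zpow, ← zpow_mul] at h7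
          have hz10 : g ^ (10 : ℤ) = 1 := by exact_mod_cast h10
          rcases zmul_ten k with ⟨q, hq⟩ | ⟨m, n, hmn⟩ | ⟨m, n, hmn⟩
          · exact absurd (by rw [hq, zpow_mul, hz10, one_zpow]) hz1
          · left
            have h8 := hconj m
            rw [hmn, zpow_add, zpow_mul, hz10, one_zpow, mul_one] at h8
            exact_mod_cast h8
          · right
            have h8 := hconj m
            rw [hmn, zpow_add, zpow_mul, hz10, one_zpow, mul_one] at h8
            have h9 : g ^ (2 : ℤ) = MulAut.conj c := by rw [hcg]; norm_cast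
            rw [h9, ← map_mul, ← map_inv, ← map_mul] at h8
            exact h8

end Cfsg.Agent.H916.RC
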