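import Mathlib.GroupTheory.Perm.Fin
import Mathlib.Tactic

/-!
# Checks over `S_6` by packed permutations (helper916)

`cod σ` packs the images of `σ : Perm (Fin 6)`; `fa_spec` : a check of all codes.
-/

set_option autoImplicit false

namespace Cfsg.Agent.H916.RC.SixTab

open Equiv

/-- image of `x` under the permutation packed in `T` -/
def gv (T x : ℕ) : ℕ := (T / 8 ^ x) % 8

/-- iterates -/
def iv (T : ℕ) : ℕ → ℕ → ℕ
  | 0, x => x
  | k + 1, x => iv T k (gv T x)

/-- all permutations with first image `a` -/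
def fa (a : ℕ) (P : ℕ → Bool) : Bool :=
  [0, 1, 2, 3, 4, 5].all fun b => Nat.beq b a || [0, 1, 2, 3, 4, 5].all fun c => Nat.beq c a || Nat.beq c b ||
    [0, 1, 2, 3, 4, 5].all fun d => Nat.beq d a || Nat.beq d b || Nat.beq d c ||
    [0, 1, 2, 3, 4, 5].all fun e => Nat.beq e a || Nat.beq e b || Nat.beq e c || Nat.beq e d ||
    [0, 1, 2, 3, 4, 5].all fun f => Nat.beq f a || Nat.beq f b || Nat.beq f c || Nat.beq f d || Nat.beq f e ||
      P (a + 8 * (b + 8 * (c + 8 * (d + 8 * (e + 8 * f)))))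

/-- the `k`-th power is trivial -/
def ck (T k : ℕ) : Bool := [0, 1, 2, 3, 4, 5].all fun x => Nat.beq (iv T k x) x

/-- the code of a permutation -/
def cod (σ : Perm (Fin 6)) : ℕ :=
  (σ 0 : ℕ) + 8 * ((σ 1 : ℕ) + 8 * ((σ 2 : ℕ) + 8 * ((σ 3 : ℕ) + 8 * ((σ 4 : ℕ) + 8 * (σ 5 : ℕ)))))

theorem gv_cod (σ : Perm (Fin 6)) (x : Fin 6) : gv (cod σ) x = σ x := by
  have h0 := (σ 0).2
  have h1 := (σ 1).2
  have h2 := (σ 2).2
  have h3 := (σ 3).2
  have h4 := (σ 4).2
  have h5 := (σ 5).2
  have k0 : gv (cod σ) 0 = σ 0 := by unfold gv cod; norm_num; omega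
  have k1 : gv (cod σ) 1 = σ 1 := by unfold gv cod; norm_num; omega
  have k2 : gv (cod σ) 2 = σ 2 := by unfold gv cod; norm_num; omega
  have k3 : gv (cod σ) 3 = σ 3 := by unfold gv cod; norm_num; omega
  have k4 : gv (cod σ) 4 = σ 4 := by unfold gv cod; norm_num; omega
  have k5 : gv (cod σ) 5 = σ 5 := by unfold gv cod; norm_num; omega
  fin_cases x
  exacts [k0, k1, k2, k3, k4, k5]

theorem iv_cod (σ : Perm (Fin 6)) (k : ℕ) (x : Fin 6) : iv (cod σ) k x = (σ ^ k) x := by
  induction k generalizing x with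
  | zero => rfl
  | succ k ih =>
    show iv (cod σ) k (gv (cod σ) x) = _
    rw [gv_cod, ih, pow_succ, Perm.mul_apply]

theorem ck_cod {σ : Perm (Fin 6)} {k : ℕ} : ck (cod σ) k = true ↔ σ ^ k = 1 := by
  unfold ck
  rw [List.all_eq_true]
  constructor
  · intro h
    ext x
    rw [← iv_cod, Perm.one_apply]
    refine Nat.eq_of_beq_eq_true (h x ?_)
    have h1 := x.2
    simp only [List.mem_cons, List.not_mem_nil, or_false]
    omega
  · intro h x hx
    have hx6 : x < 6 := by
      simp only [List.mem_cons, List.not_mem_nil, or_false] at hx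
      omega
    have h1 := iv_cod σ k ⟨x, hx6⟩
    rw [h, Perm.one_apply] at h1
    exact Nat.beq_eq ▸ h1

theorem mem6 (x : Fin 6) : (x : ℕ) ∈ ([0, 1, 2, 3, 4, 5] : List ℕ) := by
  have h1 := x.2
  simp only [List.mem_cons, List.not_mem_nil, or_false]
  omega

theorem vne (σ : Perm (Fin 6)) {i j : Fin 6} (h : i ≠ j) : ¬ Nat.beq (σ i : ℕ) (σ j : ℕ) = true := by
  intro h1
  exact h (σ.injective (Fin.ext (Nat.eq_of_beq_eq_true h1)))

theorem fa_spec {P : ℕ → Bool} (h0 : fa 0 P = true) (h1 : fa 1 P = true) (h2 : fa 2 P = true) (h3 : fa 3 P = true)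
    (h4 : fa 4 P = true) (h5 : fa 5 P = true) (σ : Perm (Fin 6)) : P (cod σ) = true := by
  have h : ∀ a : Fin 6, fa a P = true := by
    intro a
    fin_cases a
    exacts [h0, h1, h2, h3, h4, h5]
  have h := h (σ 0)
  unfold fa at h
  simp only [List.all_eq_true, Bool.or_eq_true] at h
  have e1 := (h _ (mem6 (σ 1))).resolve_left (vne σ (by decide))
  have e2 := (e1 _ (mem6 (σ 2))).resolve_left (by
    rintro (h | h)
    · exact vne σ (by decide) h
    · exact vne σ (by decide) h)
  have e3 := (e2 _ (mem6 (σ 3))).resolve_left (by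
    rintro ((h | h) | h)
    · exact vne σ (by decide) h
    · exact vne σ (by decide) h
    · exact vne σ (by decide) h)
  have e4 := (e3 _ (mem6 (σ 4))).resolve_left (by
    rintro (((h | h) | h) | h)
    · exact vne σ (by decide) h
    · exact vne σ (by decide) h
    · exact vne σ (by decide) h
    · exact vne σ (by decide) h)
  have e5 := (e4 _ (mem6 (σ 5))).resolve_left (by
    rintro ((((h | h) | h) | h) | h)
    · exact vne σ (by decide) h
    · exact vne σ (by decide) h
    · exact vne σ (by decide) h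
    · exact vne σ (by decide) h
    · exact vne σ (by decide) h)
  exact e5

end Cfsg.Agent.H916.RC.SixTab
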