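import Cfsg.Agent.H916.RC.Six
import Cfsg.Agent.H916.RC.SixTab
import Cfsg.Agent.H106.RC.Defs

/-!
# Regular cycles for `A_6`: every automorphism of order `≠ 6` (helper916)
-/

set_option autoImplicit false

namespace Cfsg.Agent.H916.RC

open Equiv Equiv.Perm
open Cfsg.Agent.H277.SK Cfsg.Agent.H106.RC

abbrev A6 := alternatingGroup (Fin 6)

theorem simpleA6 : IsSimpleGroup A6 := by
  haveI := alternatingGroup.isSimpleGroup (α := Fin 6) (by rw [Nat.card_eq_fintype_card, Fintype.card_fin]; norm_num)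
  infer_instance

theorem conj_inj {x y : A6} (h : MulAut.conj x = MulAut.conj y) : x = y := by
  have h1 : cn (x : Perm (Fin 6)) = cn (y : Perm (Fin 6)) := by
    apply MulEquiv.ext
    intro z
    apply Subtype.ext
    rw [cn_apply, cn_apply]
    have h2 := congrArg (fun f : MulAut A6 => ((f z : A6) : Perm (Fin 6))) h
    simpa [MulAut.conj_apply] using h2
  exact Subtype.ext (cn_inj h1)

theorem cn_val (x : A6) : cn (x : Perm (Fin 6)) = MulAut.conj x := by
  apply MulEquiv.ext
  intro z
  apply Subtype.ext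
  rw [cn_apply, MulAut.conj_apply]
  rfl

theorem mul_conj_inv (α : MulAut A6) (x : A6) : α * MulAut.conj x * α⁻¹ = MulAut.conj (α x) := by
  ext z : 1
  simp [MulAut.conj_apply, MulAut.mul_apply]

/-- automorphisms not preserving the 3-cycles fix no element of order three -/
theorem nfix {α : MulAut A6} (h : ¬ Pr α) {x : A6} (hx : orderOf x = 3) : α x ≠ x := by
  intro he
  rcases T3_or_Q3 hx with h1 | h1
  · exact h (pr_of_T3 h1 (by rw [he]; exact h1))
  · exact h (pr_of_Q3 h1 (by rw [he]; exact h1))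

/-- they exchange the two types -/
theorem swapT {α : MulAut A6} (h : ¬ Pr α) {x : A6} (hx : T3 x) : Q3 (α x) := by
  rcases map_T3 (α := α) hx with h1 | h1
  · exact absurd (pr_of_T3 hx h1) h
  · exact h1

theorem swapQ {α : MulAut A6} (h : ¬ Pr α) {x : A6} (hx : Q3 x) : T3 (α x) := by
  rcases map_Q3 (α := α) hx with h1 | h1
  · exact h1
  · exact absurd (pr_of_Q3 hx h1) h

theorem pr_mul' {α β : MulAut A6} (hα : Pr α) (hβ : Pr β) : Pr (α * β) := fun x hx => hα _ (hβ x hx)

theorem pr_sq (α : MulAut A6) : Pr (α * α) := by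
  by_cases h : Pr α
  · exact pr_mul' h h
  · exact pr_mul h h

theorem pr_one : Pr 1 := fun _ h => h

/-- the check for `ord_six` -/
def os (T : ℕ) : Bool := SixTab.ck T 4 || (SixTab.ck T 5 || SixTab.ck T 6)

theorem os0 : SixTab.fa 0 os = true := by decide +kernel

theorem os1 : SixTab.fa 1 os = true := by decide +kernel

theorem os2 : SixTab.fa 2 os = true := by decide +kernel

theorem os3 : SixTab.fa 3 os = true := by decide +kernel

theorem os4 : SixTab.fa 4 os = true := by decide +kernel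

theorem os5 : SixTab.fa 5 os = true := by decide +kernel

theorem ord_six : ∀ σ : Perm (Fin 6), σ ^ 4 = 1 ∨ σ ^ 5 = 1 ∨ σ ^ 6 = 1 := by
  intro σ
  have h := SixTab.fa_spec os0 os1 os2 os3 os4 os5 σ
  unfold os at h
  rwa [Bool.or_eq_true, Bool.or_eq_true, SixTab.ck_cod, SixTab.ck_cod, SixTab.ck_cod] at h

theorem odd_order_even {σ : Perm (Fin 6)} {n : ℕ} (hn : Odd n) (h : σ ^ n = 1) : Perm.sign σ = 1 := by
  rcases Int.units_eq_one_or (Perm.sign σ) with h1 | h1
  · exact h1
  · exfalso
    have h2 : Perm.sign (σ ^ n) = 1 := by rw [h, map_one]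
    rw [map_pow, h1, hn.neg_one_pow] at h2
    exact absurd h2 (by decide)

/-- an automorphism not preserving the 3-cycles has order dividing 8 or 10 -/
theorem pow_of_not_pr {α : MulAut A6} (h : ¬ Pr α) : α ^ 8 = 1 ∨ α ^ 10 = 1 := by
  obtain ⟨τ, hτ⟩ := pr_cn (pr_sq α)
  have hcomm : ∀ k : ℕ, α * cn (τ ^ k) * α⁻¹ = cn (τ ^ k) := by
    intro k
    have h1 : α * cn (τ ^ k) = cn (τ ^ k) * α := by
      rw [map_pow, hτ, ← pow_two]
      exact ((Commute.refl α).pow_right 2).pow_right k
    rw [h1, mul_inv_cancel_right]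
  have h3 : ∀ k : ℕ, orderOf (τ ^ k) ≠ 3 := by
    intro k hk
    have h4 : Perm.sign (τ ^ k) = 1 := odd_order_even (n := 3) (by decide) (by rw [← hk, pow_orderOf_eq_one])
    let x : A6 := ⟨τ ^ k, Perm.mem_alternatingGroup.2 h4⟩
    have hx : orderOf x = 3 := by rw [← Subgroup.orderOf_coe]; exact hk
    apply nfix h hx
    apply conj_inj
    rw [← mul_conj_inv, ← cn_val]
    exact hcomm k
  have h5 : τ ^ 4 = 1 ∨ τ ^ 5 = 1 := by
    rcases ord_six τ with h6 | h6 | h6
    · exact Or.inl h6
    · exact Or.inr h6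
    · -- order divides 6, not divisible by 3
      have h7 : τ ^ 2 = 1 := by
        by_contra h8
        apply h3 2
        have h9 : (τ ^ 2) ^ 3 = 1 := by rw [← pow_mul]; exact h6
        exact orderOf_eq_prime (p := 3) h9 h8
      left
      rw [show 4 = 2 * 2 from rfl, pow_mul, h7, one_pow]
  rcases h5 with h5 | h5
  · left
    rw [show 8 = 2 * 4 from rfl, pow_mul, pow_two, ← hτ, ← map_pow, h5, map_one]
  · right
    rw [show 10 = 2 * 5 from rfl, pow_mul, pow_two, ← hτ, ← map_pow, h5, map_one]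

end Cfsg.Agent.H916.RC
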