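import Cfsg.Agent.H277.SK.AltSix

/-!
# Permutations of six points: two generation lemmas (helper916)
-/

set_option autoImplicit false

namespace Cfsg.Agent.H916.RC

open Equiv Equiv.Perm

/-- a subgroup of `S_6` with a 3-cycle, transitive, with a point stabiliser transitive on the rest contains `A_6` -/
theorem jordan {D : Subgroup (Perm (Fin 6))} {t : Perm (Fin 6)} (ht : t.IsThreeCycle) (htD : t ∈ D) (a : Fin 6)
    (h1 : ∃ d ∈ D, d a ≠ a) (h2 : ∀ x y : Fin 6, x ≠ a → y ≠ a → ∃ d ∈ D, d a = a ∧ d x = y) :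
    alternatingGroup (Fin 6) ≤ D := by
  obtain ⟨d0, hd0, hd0a⟩ := h1
  have htr : ∀ x : Fin 6, ∃ d ∈ D, d x = a := by
    intro x
    by_cases hx : x = a
    · exact ⟨1, D.one_mem, by rw [hx]; rfl⟩
    · obtain ⟨d, hd, _, hd2⟩ := h2 x (d0 a) hx hd0a
      refine ⟨d0⁻¹ * d, D.mul_mem (D.inv_mem hd0) hd, ?_⟩
      rw [Perm.mul_apply, hd2]
      exact d0.symm_apply_apply a
  have h2p : MulAction.IsMultiplyPretransitive D (Fin 6) 2 := by
    rw [MulAction.is_two_pretransitive_iff]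
    intro x y u v hxy huv
    obtain ⟨g1, hg1, e1⟩ := htr x
    obtain ⟨g2, hg2, e2⟩ := htr u
    have hy : g1 y ≠ a := fun h => hxy (g1.injective (e1.trans h.symm))
    have hv : g2 v ≠ a := fun h => huv (g2.injective (e2.trans h.symm))
    obtain ⟨d, hd, d1, d2⟩ := h2 _ _ hy hv
    refine ⟨⟨g2⁻¹ * d * g1, D.mul_mem (D.mul_mem (D.inv_mem hg2) hd) hg1⟩, ?_, ?_⟩
    · show (g2⁻¹ * d * g1) x = u
      rw [Perm.mul_apply, Perm.mul_apply, e1, d1, ← e2]
      exact g2.symm_apply_apply u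
    · show (g2⁻¹ * d * g1) y = v
      rw [Perm.mul_apply, Perm.mul_apply, d2]
      exact g2.symm_apply_apply v
  have hpp : MulAction.IsPreprimitive D (Fin 6) := MulAction.isPreprimitive_of_is_two_pretransitive h2p
  exact alternatingGroup_le_of_isPreprimitive_of_isThreeCycle_mem hpp ht htD

/-- a subgroup of `S_6` with a 3-cycle, an element without fixed points and a 5-cycle contains `A_6` -/
theorem five_three {D : Subgroup (Perm (Fin 6))} {t q c : Perm (Fin 6)} (ht : t.IsThreeCycle) (htD : t ∈ D)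
    (hq : ∀ x, q x ≠ x) (hqD : q ∈ D) (hc : orderOf c = 5) (hcD : c ∈ D) : alternatingGroup (Fin 6) ≤ D := by
  have hcyc : c.IsCycle ∧ c.support.card = 5 := by
    obtain ⟨n, hn⟩ := cycleType_prime_order (σ := c) (by rw [hc]; exact Nat.prime_five)
    rw [hc] at hn
    have h4 := Equiv.Perm.sum_cycleType c
    have h5 : c.support.card ≤ 6 := by
      have := Finset.card_le_univ c.support
      rwa [Fintype.card_fin] at this
    rw [hn, Multiset.sum_replicate, smul_eq_mul] at h4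
    have h6 : n = 0 := by omega
    subst h6
    refine ⟨?_, by omega⟩
    rw [← card_cycleType_eq_one, hn]; rfl
  obtain ⟨a, ha⟩ : ∃ a, c a = a := by
    by_contra hno
    push Not at hno
    have : c.support = Finset.univ := by
      ext x; simp [hno x]
    have h7 := hcyc.2
    rw [this, Finset.card_univ, Fintype.card_fin] at h7
    omega
  have hmov : ∀ x, x ≠ a → c x ≠ x := by
    intro x hx hcx
    have h8 : c.support ⊆ (Finset.univ.erase a).erase x := by
      intro y hy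
      rw [Finset.mem_erase, Finset.mem_erase]
      refine ⟨?_, ?_, Finset.mem_univ _⟩
      · rintro rfl
        exact (mem_support.1 hy) hcx
      · rintro rfl
        exact (mem_support.1 hy) ha
    have h9 := Finset.card_le_card h8
    rw [Finset.card_erase_of_mem (Finset.mem_erase.2 ⟨hx, Finset.mem_univ _⟩),
      Finset.card_erase_of_mem (Finset.mem_univ _), Finset.card_univ, Fintype.card_fin, hcyc.2] at h9
    omega
  apply jordan ht htD a ⟨q, hqD, hq a⟩
  intro x y hx hy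
  obtain ⟨k, hk⟩ := hcyc.1.exists_zpow_eq (hmov x hx) (hmov y hy)
  exact ⟨c ^ k, D.zpow_mem hcD k, zpow_apply_eq_self_of_apply_eq_self ha k, hk⟩

/-- if all transpositions off `a` are in `D` then all permutations fixing `a` are -/
theorem stab_le {D : Subgroup (Perm (Fin 6))} {a : Fin 6} (h : ∀ x y : Fin 6, x ≠ a → y ≠ a → swap x y ∈ D) :
    ∀ (n : ℕ) (σ : Perm (Fin 6)), σ.support.card ≤ n → σ a = a → σ ∈ D := by
  intro n
  induction n with
  | zero =>
    intro σ hσ _
    have h1 : σ.support = ∅ := Finset.card_eq_zero.1 (Nat.le_zero.1 hσ)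
    rw [support_eq_empty_iff] at h1
    rw [h1]; exact D.one_mem
  | succ n ih =>
    intro σ hσ hσa
    by_cases h1 : σ = 1
    · rw [h1]; exact D.one_mem
    obtain ⟨x, hx⟩ : ∃ x, σ x ≠ x := by
      by_contra hno
      push Not at hno
      exact h1 (Equiv.ext hno)
    have hxa : x ≠ a := by rintro rfl; exact hx hσa
    have hσxa : σ x ≠ a := fun h2 => hxa (σ.injective (h2.trans hσa.symm))
    have h3 : (swap x (σ x) * σ).support.card < σ.support.card := card_support_swap_mul hx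
    have h4 := ih (swap x (σ x) * σ) (by omega) (by
      rw [Perm.mul_apply, hσa]
      exact swap_apply_of_ne_of_ne hxa.symm hσxa.symm)
    have h5 := D.mul_mem (h x (σ x) hxa hσxa) h4
    rwa [← mul_assoc, swap_mul_self, one_mul] at h5

/-- the graph argument -/
theorem graph {D : Subgroup (Perm (Fin 6))}
    (h : ∀ x y : Fin 6, x ≠ y → swap x y ∉ D → ∀ t : Perm (Fin 6), t.IsThreeCycle → t x = x → t y = y → t ∈ D)
    (hA : ¬ alternatingGroup (Fin 6) ≤ D) :
    ∃ a, ∀ σ : Perm (Fin 6), Perm.sign σ = 1 → (σ ∈ D ↔ σ a = a) := by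
  -- a bad pair
  have hbad : ∃ a b : Fin 6, a ≠ b ∧ swap a b ∉ D := by
    by_contra hno
    push Not at hno
    apply hA
    have h1 : D = ⊤ := by
      rw [eq_top_iff, ← closure_isSwap, Subgroup.closure_le]
      rintro _ ⟨x, y, hxy, rfl⟩
      exact hno x y hxy
    rw [h1]; exact le_top
  -- transitivity on the complement of a bad pair
  have hmv : ∀ a b : Fin 6, a ≠ b → swap a b ∉ D → ∀ x y : Fin 6, x ≠ a → x ≠ b → y ≠ a → y ≠ b →
      ∃ d ∈ D, d a = a ∧ d b = b ∧ d x = y := by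
    intro a b hab hD x y hxa hxb hya hyb
    by_cases hxy : x = y
    · exact ⟨1, D.one_mem, rfl, rfl, hxy⟩
    obtain ⟨z, hza, hzb, hzx, hzy⟩ : ∃ z : Fin 6, z ≠ a ∧ z ≠ b ∧ z ≠ x ∧ z ≠ y := by
      clear hab hD hxa hxb hya hyb hxy
      revert a b x y
      decide
    have ht : (swap x z * swap x y : Perm (Fin 6)).IsThreeCycle :=
      isThreeCycle_swap_mul_swap_same hzx.symm hxy hzy
    refine ⟨swap x z * swap x y, h a b hab hD _ ht ?_ ?_, ?_, ?_, ?_⟩
    · rw [Perm.mul_apply, swap_apply_of_ne_of_ne hxa.symm hya.symm, swap_apply_of_ne_of_ne hxa.symm hza.symm]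
    · rw [Perm.mul_apply, swap_apply_of_ne_of_ne hxb.symm hyb.symm, swap_apply_of_ne_of_ne hxb.symm hzb.symm]
    · rw [Perm.mul_apply, swap_apply_of_ne_of_ne hxa.symm hya.symm, swap_apply_of_ne_of_ne hxa.symm hza.symm]
    · rw [Perm.mul_apply, swap_apply_of_ne_of_ne hxb.symm hyb.symm, swap_apply_of_ne_of_ne hxb.symm hzb.symm]
    · rw [Perm.mul_apply, swap_apply_left, swap_apply_of_ne_of_ne (Ne.symm hxy) hzy.symm]
  -- a 3-cycle off a bad pair
  have h3c : ∀ a b : Fin 6, a ≠ b → swap a b ∉ D → ∃ t ∈ D, t.IsThreeCycle := by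
    intro a b hab hD
    obtain ⟨x, y, z, h1, h2, h3, h4, h5, h6, h7, h8, h9⟩ : ∃ x y z : Fin 6, x ≠ a ∧ x ≠ b ∧ y ≠ a ∧ y ≠ b ∧ z ≠ a ∧
        z ≠ b ∧ x ≠ y ∧ x ≠ z ∧ y ≠ z := by
      clear hab hD
      revert a b
      decide
    have ht : (swap x z * swap x y : Perm (Fin 6)).IsThreeCycle := isThreeCycle_swap_mul_swap_same h8 h7 h9.symm
    refine ⟨_, h a b hab hD _ ht ?_ ?_, ht⟩
    · rw [Perm.mul_apply, swap_apply_of_ne_of_ne h1.symm h3.symm, swap_apply_of_ne_of_ne h1.symm h5.symm]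
    · rw [Perm.mul_apply, swap_apply_of_ne_of_ne h2.symm h4.symm, swap_apply_of_ne_of_ne h2.symm h6.symm]
  -- no path of bad pairs on both sides
  have hpath : ∀ a b c c' : Fin 6, a ≠ b → c ≠ a → c ≠ b → c' ≠ a → c' ≠ b → swap a b ∉ D → swap a c ∉ D →
      swap b c' ∉ D → False := by
    intro a b c c' hab hca hcb hca' hcb' h1 h2 h3
    apply hA
    obtain ⟨t, htD, ht⟩ := h3c a b hab h1
    apply jordan ht htD a
    · obtain ⟨e, he1, he2, he3⟩ : ∃ e : Fin 6, e ≠ a ∧ e ≠ b ∧ e ≠ c' := by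
        clear hab hca hcb hca' hcb' h1 h2 h3
        revert a b c'
        decide
      obtain ⟨d, hd, -, -, hd3⟩ := hmv b c' hcb'.symm h3 a e hab hca'.symm he2 he3
      exact ⟨d, hd, by rw [hd3]; exact he1⟩
    · have hb : ∀ y, y ≠ a → ∃ d ∈ D, d a = a ∧ d b = y := by
        intro y hya
        by_cases hyc : y = c
        · subst hyc
          obtain ⟨e, he1, he2, he3⟩ : ∃ e : Fin 6, e ≠ a ∧ e ≠ b ∧ e ≠ y := by
            clear hab hca hcb hca' hcb' h1 h2 h3 hya
            revert a b y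
            decide
          obtain ⟨d, hd, d1, -, d3⟩ := hmv a y hca.symm h2 b e hab.symm hcb.symm he1 he3
          obtain ⟨d', hd', d1', -, d3'⟩ := hmv a b hab h1 e y he1 he2 hya hcb
          exact ⟨d' * d, D.mul_mem hd' hd, by rw [Perm.mul_apply, d1, d1'], by rw [Perm.mul_apply, d3, d3']⟩
        · obtain ⟨d, hd, d1, -, d3⟩ := hmv a c hca.symm h2 b y hab.symm hcb.symm hya hyc
          exact ⟨d, hd, d1, d3⟩
      intro x y hx hy
      obtain ⟨d, hd, d1, d2⟩ := hb x hx
      obtain ⟨d', hd', d1', d2'⟩ := hb y hy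
      refine ⟨d' * d⁻¹, D.mul_mem hd' (D.inv_mem hd), ?_, ?_⟩
      · rw [Perm.mul_apply]
        have : d⁻¹ a = a := by conv_lhs => rw [← d1]; exact d.symm_apply_apply a
        rw [this, d1']
      · rw [Perm.mul_apply]
        have : d⁻¹ x = b := by rw [← d2]; exact d.symm_apply_apply b
        rw [this, d2']
  -- the point `a`
  have hpt : ∃ a b : Fin 6, a ≠ b ∧ swap a b ∉ D ∧ ∀ c, c ≠ a → c ≠ b → swap b c ∈ D := by
    obtain ⟨a, b, hab, hD⟩ := hbad
    by_cases h1 : ∀ c, c ≠ a → c ≠ b → swap b c ∈ D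
    · exact ⟨a, b, hab, hD, h1⟩
    · push Not at h1
      obtain ⟨c', c1, c2, c3⟩ := h1
      refine ⟨b, a, hab.symm, by rwa [swap_comm], ?_⟩
      intro c h2 h3
      by_contra h4
      exact hpath a b c c' hab h3 h2 c1 c2 hD h4 c3
  obtain ⟨a, b, hab, hD, hall⟩ := hpt
  have hsw : ∀ x y : Fin 6, x ≠ a → y ≠ a → swap x y ∈ D := by
    intro x y hx hy
    by_cases hxy : x = y
    · rw [hxy, swap_self]; exact D.one_mem
    by_cases hxb : x = b
    · rw [hxb]
      exact hall y hy (fun h => hxy (hxb.trans h.symm))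
    by_cases hyb : y = b
    · rw [hyb, swap_comm]
      exact hall x hx hxb
    have h1 := hall x hx hxb
    have h2 := hall y hy hyb
    have h3 : swap x y = swap b x * swap b y * swap b x := by
      have h4 := swap_mul_swap_mul_swap (x := y) (y := b) (z := x) (Ne.symm (Ne.symm hyb)) (Ne.symm hxy)
      rw [swap_comm b y]
      exact h4.symm
    rw [h3]
    exact D.mul_mem (D.mul_mem h1 h2) h1
  refine ⟨a, fun σ _ => ⟨fun hσ => ?_, fun hσ => stab_le hsw _ σ le_rfl hσ⟩⟩
  by_contra hσa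
  apply hA
  obtain ⟨t, htD, ht⟩ := h3c a b hab hD
  refine jordan ht htD a ⟨σ, hσ, hσa⟩ ?_
  intro x y hx hy
  exact ⟨swap x y, hsw x y hx hy, swap_apply_of_ne_of_ne hx.symm hy.symm, swap_apply_left x y⟩

end Cfsg.Agent.H916.RC
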